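import Groth.Agent.BiextCls.Glue
import Groth.Prelude.Def_CGrpSh2
import Mathlib.Algebra.Homology.ShortComplex.ExactFunctor

/-!
# The internal Hom of abelian sheaves on sections, and its left exactness
-/

noncomputable section

set_option autoImplicit false
set_option linter.unusedSectionVars false

universe u

open CategoryTheory CategoryTheory.Limits Opposite

namespace Groth.Agent.BiextCls

variable {C : Type (u + 1)} [Category.{u} C] {J : GrothendieckTopology C} {F K L : Sheaf J AddCommGrpCat.{u + 1}}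

/-- The value of a section of the internal Hom. -/
def ev {T : C} (φ : (HomSh.homSh J F K).obj.obj (op T)) (V : Over T) : F.obj.obj (op V.left) →+ K.obj.obj (op V.left) :=
  ((show F.over T ⟶ K.over T from φ).hom.app (op V)).hom

theorem ev_ext {T : C} {φ ψ : (HomSh.homSh J F K).obj.obj (op T)} (h : ∀ V q, ev φ V q = ev ψ V q) : φ = ψ :=
  Sheaf.hom_ext (NatTrans.ext (funext fun V => AddCommGrpCat.hom_ext (AddMonoidHom.ext fun q => h V.unop q)))

theorem ev_res {T : C} (φ : (HomSh.homSh J F K).obj.obj (op T)) {V V' : Over T} (k : V' ⟶ V)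
    (q : F.obj.obj (op V.left)) :
    ev φ V' (F.obj.map k.left.op q) = K.obj.map k.left.op (ev φ V q) :=
  NatTrans.naturality_apply (show F.over T ⟶ K.over T from φ).hom k.op q

theorem ev_map {T T' : C} (k : T' ⟶ T) (φ : (HomSh.homSh J F K).obj.obj (op T)) (V : Over T')
    (q : F.obj.obj (op V.left)) :
    ev ((HomSh.homSh J F K).obj.map k.op φ) V q = ev φ ((Over.map k).obj V) q := rfl

theorem ev_add {T : C} (φ ψ : (HomSh.homSh J F K).obj.obj (op T)) (V : Over T) (q : F.obj.obj (op V.left)) :
    ev (φ + ψ) V q = ev φ V q + ev ψ V q := rfl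

theorem ev_neg {T : C} (φ : (HomSh.homSh J F K).obj.obj (op T)) (V : Over T) (q : F.obj.obj (op V.left)) :
    ev (-φ) V q = -ev φ V q := rfl

theorem ev_zero {T : C} (V : Over T) (q : F.obj.obj (op V.left)) :
    ev (0 : (HomSh.homSh J F K).obj.obj (op T)) V q = 0 := rfl

theorem ev_homShMap (β : K ⟶ L) {T : C} (φ : (HomSh.homSh J F K).obj.obj (op T)) (V : Over T)
    (q : F.obj.obj (op V.left)) :
    ev ((HomSh.homShMap J (𝟙 F) β).hom.app (op T) φ) V q = β.hom.app (op V.left) (ev φ V q) := by
  rfl

/-- A section of the internal Hom from its values. -/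
def sec {T : C} (h : ∀ V : Over T, F.obj.obj (op V.left) →+ K.obj.obj (op V.left))
    (hh : ∀ {V V' : Over T} (k : V' ⟶ V) (q : F.obj.obj (op V.left)),
      h V' (F.obj.map k.left.op q) = K.obj.map k.left.op (h V q)) :
    (HomSh.homSh J F K).obj.obj (op T) :=
  show F.over T ⟶ K.over T from
    ⟨{ app := fun V => AddCommGrpCat.ofHom (h V.unop)
       naturality := fun V V' k => AddCommGrpCat.hom_ext (AddMonoidHom.ext fun q => hh k.unop q) }⟩

theorem ev_sec {T : C} (h : ∀ V : Over T, F.obj.obj (op V.left) →+ K.obj.obj (op V.left))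
    (hh : ∀ {V V' : Over T} (k : V' ⟶ V) (q : F.obj.obj (op V.left)),
      h V' (F.obj.map k.left.op q) = K.obj.map k.left.op (h V q))
    (V : Over T) (q : F.obj.obj (op V.left)) : ev (sec h hh) V q = h V q := rfl

variable [HasSheafify J AddCommGrpCat.{u + 1}] {S : ShortComplex (Sheaf J AddCommGrpCat.{u + 1})}

theorem app_injective (hS : S.Exact) [Mono S.f] (V : C) : Function.Injective (S.f.hom.app (op V)) := by
  haveI : Mono ((sheafToPresheaf J AddCommGrpCat.{u + 1} ⋙ (evaluation Cᵒᵖ AddCommGrpCat.{u + 1}).obj (op V)).map S.f) :=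
    (sheafToPresheaf J AddCommGrpCat.{u + 1} ⋙ (evaluation Cᵒᵖ AddCommGrpCat.{u + 1}).obj (op V)).map_mono S.f
  exact (AddCommGrpCat.mono_iff_injective (((sheafToPresheaf J AddCommGrpCat.{u + 1} ⋙ (evaluation Cᵒᵖ AddCommGrpCat.{u + 1}).obj (op V))).map S.f)).1 this

theorem app_exact (hS : S.Exact) [Mono S.f] (V : C) (x : S.X₂.obj.obj (op V)) (hx : S.g.hom.app (op V) x = 0) :
    ∃ y, S.f.hom.app (op V) y = x := by
  have h := hS.map_of_mono_of_preservesKernel (sheafToPresheaf J AddCommGrpCat.{u + 1} ⋙ (evaluation Cᵒᵖ AddCommGrpCat.{u + 1}).obj (op V))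
    inferInstance inferInstance
  exact (ShortComplex.ab_exact_iff _).1 h x hx

/-- A section killed after composition factors through the kernel. -/
theorem exists_ev_lift (hS : S.Exact) [Mono S.f] {T : C} (φ : (HomSh.homSh J F S.X₂).obj.obj (op T))
    (h : ∀ V q, S.g.hom.app (op V.left) (ev φ V q) = 0) :
    ∃ l : (HomSh.homSh J F S.X₁).obj.obj (op T), ∀ V q, S.f.hom.app (op V.left) (ev l V q) = ev φ V q := by
  choose l hl using fun (V : Over T) q => app_exact hS V.left _ (h V q)
  refine ⟨sec (fun V => AddMonoidHom.mk' (l V) fun a b => app_injective hS V.left (by rw [map_add, hl, hl, hl, map_add]))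
    (fun {V V'} k q => app_injective hS V'.left ?_), fun V q => hl V q⟩
  show S.f.hom.app _ (l V' _) = S.f.hom.app _ (S.X₁.obj.map k.left.op (l V q))
  rw [hl, ev_res, NatTrans.naturality_apply, hl]

theorem mono_homShMap (hS : S.Exact) [Mono S.f] : Mono (HomSh.homShMap J (𝟙 F) S.f) := by
  haveI : Mono (HomSh.homShMap J (𝟙 F) S.f).hom := by
    haveI : ∀ T, Mono ((HomSh.homShMap J (𝟙 F) S.f).hom.app T) := fun T =>
      (AddCommGrpCat.mono_iff_injective _).2 fun a b hab => ev_ext fun V q =>
        app_injective hS V.left (by rw [← ev_homShMap, ← ev_homShMap, hab])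
    exact NatTrans.mono_of_mono_app _
  exact (sheafToPresheaf J AddCommGrpCat.{u + 1}).mono_of_mono_map this

instance preservesFiniteLimits_homShFunctor : PreservesFiniteLimits (HomSh.homShFunctor J F) := by
  refine (((HomSh.homShFunctor J F).preservesFiniteLimits_tfae).out 1 3).1 ?_
  intro S hS
  haveI := hS.2
  haveI := mono_homShMap (F := F) hS.1
  refine ⟨?_, mono_homShMap hS.1⟩
  haveI : Mono (S.map (HomSh.homShFunctor J F)).f := mono_homShMap hS.1
  refine ShortComplex.exact_of_f_is_kernel _ (KernelFork.IsLimit.ofι' _ _ fun {W} k hk => ?_)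
  have h0 : ∀ (T : C) (w : W.obj.obj (op T)) V q, S.g.hom.app (op V.left) (ev (k.hom.app (op T) w) V q) = 0 := by
    intro T w V q
    rw [← ev_homShMap]
    exact congr(ev (($hk).hom.app (op T) w) V q)
  choose l hl using fun T w => exists_ev_lift hS.1 (k.hom.app (op T) w) (h0 T w)
  refine ⟨⟨{ app := fun T => AddCommGrpCat.ofHom (AddMonoidHom.mk' (l T.unop) fun a b => ev_ext fun V q =>
      app_injective hS.1 V.left (by
        show _ = S.f.hom.app (op V.left) (ev (l T.unop a) V q + ev (l T.unop b) V q)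
        rw [map_add, hl, hl, hl]
        show ev (k.hom.app T (a + b)) V q = ev (k.hom.app T a) V q + ev (k.hom.app T b) V q
        rw [map_add]
        rfl))
             naturality := fun T T' m => AddCommGrpCat.hom_ext (AddMonoidHom.ext fun w => ev_ext fun V q =>
               app_injective hS.1 V.left ?_) }⟩, ?_⟩
  · show S.f.hom.app _ (ev (l T'.unop (W.obj.map m w)) V q) =
      S.f.hom.app _ (ev (l T.unop w) ((Over.map m.unop).obj V) q)
    rw [hl, NatTrans.naturality_apply]
    exact (hl T.unop w ((Over.map m.unop).obj V) q).symm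
  · exact Sheaf.hom_ext (NatTrans.ext (funext fun T => AddCommGrpCat.hom_ext (AddMonoidHom.ext fun w =>
      ev_ext fun V q => (ev_homShMap S.f _ V q).trans (hl T.unop w V q))))

end Groth.Agent.BiextCls
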