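import Groth.Agent.BiextCls.Univ
import Groth.Agent.BiextCls.LeftExact

/-!
# The classes attached to a biextension and an injective presentation of its group
-/

noncomputable section

set_option autoImplicit false
set_option linter.unusedSectionVars false

universe u

open CategoryTheory CategoryTheory.Limits Opposite

namespace Groth.Agent.BiextCls

open BiextDiv (add₁_congr add₂_congr add₁_act' add₂_act' act_inj)

variable {C : Type (u + 1)} [Category.{u} C] {J : GrothendieckTopology C} {P Q G : Sheaf J AddCommGrpCat.{u + 1}}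

/-- An injective presentation of the group with an extension of it to the points. -/
structure Pres (B : Biext J P Q G) where
  I : Sheaf J AddCommGrpCat.{u + 1}
  K : Sheaf J AddCommGrpCat.{u + 1}
  i : G ⟶ I
  π : I ⟶ K
  w : i ≫ π = 0
  f : ∀ T : C, B.E.obj.obj (op T) → I.obj.obj (op T)
  f_map : ∀ {T T' : C} (k : T' ⟶ T) x, f T' (B.E.obj.map k.op x) = I.obj.map k.op (f T x)
  f_act : ∀ T g x, f T (B.act T g x) = i.hom.app (op T) g + f T x
  f_add₂ : ∀ T x y h, f T (B.add₂ T x y h) = f T x + f T y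

variable {B : Biext J P Q G} (D : Pres B)

theorem π_i (T : C) (g : G.obj.obj (op T)) : D.π.hom.app (op T) (D.i.hom.app (op T) g) = 0 :=
  congr(($(D.w)).hom.app (op T) g)

theorem f_fibre {T : C} (x y : B.E.obj.obj (op T)) (hP : B.πP T x = B.πP T y) (hQ : B.πQ T x = B.πQ T y) :
    D.π.hom.app (op T) (D.f T x) = D.π.hom.app (op T) (D.f T y) := by
  obtain ⟨g, rfl⟩ := exists_act B x y hP hQ
  rw [D.f_act, map_add, π_i, zero_add]

theorem existsUnique_β (T : C) (p : P.obj.obj (op T)) (q : Q.obj.obj (op T)) :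
    ∃! v : D.K.obj.obj (op T), ∀ ⦃T' : C⦄ (k : T' ⟶ T) (x : B.E.obj.obj (op T')),
      B.πP T' x = P.obj.map k.op p → B.πQ T' x = Q.obj.map k.op q →
        D.π.hom.app (op T') (D.f T' x) = D.K.obj.map k.op v :=
  existsUnique_value B D.K T p q (fun T' x => D.π.hom.app (op T') (D.f T' x))
    (fun T' T'' k x => by rw [D.f_map, NatTrans.naturality_apply])
    (fun T' x y hP hQ => f_fibre D x y hP hQ)

/-- The image of the points in the quotient. -/
def β (T : C) (p : P.obj.obj (op T)) (q : Q.obj.obj (op T)) : D.K.obj.obj (op T) := (existsUnique_β D T p q).choose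

theorem β_spec {T T' : C} (k : T' ⟶ T) (p : P.obj.obj (op T)) (q : Q.obj.obj (op T)) (x : B.E.obj.obj (op T'))
    (hP : B.πP T' x = P.obj.map k.op p) (hQ : B.πQ T' x = Q.obj.map k.op q) :
    D.π.hom.app (op T') (D.f T' x) = D.K.obj.map k.op (β D T p q) :=
  (existsUnique_β D T p q).choose_spec.1 k x hP hQ

theorem β_map {T T' : C} (k : T' ⟶ T) (p : P.obj.obj (op T)) (q : Q.obj.obj (op T)) :
    β D T' (P.obj.map k.op p) (Q.obj.map k.op q) = D.K.obj.map k.op (β D T p q) :=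
  ((existsUnique_β D T' _ _).choose_spec.2 _ fun T'' l x hP hQ => by
    rw [resA]
    exact β_spec D (l ≫ k) p q x (by rw [hP, resA]) (by rw [hQ, resA])).symm

/-- Two covering sieves of lifts. -/
theorem exists_lifts (T : C) (p p' : P.obj.obj (op T)) (q q' : Q.obj.obj (op T)) :
    ∃ R ∈ J T, ∀ ⦃T' : C⦄ (k : T' ⟶ T), R k → ∃ x z : B.E.obj.obj (op T'),
      B.πP T' x = P.obj.map k.op p ∧ B.πQ T' x = Q.obj.map k.op q ∧
        B.πP T' z = P.obj.map k.op p' ∧ B.πQ T' z = Q.obj.map k.op q' := by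
  obtain ⟨R, hR, h⟩ := B.locallySurjective T p q
  obtain ⟨R', hR', h'⟩ := B.locallySurjective T p' q'
  refine ⟨R ⊓ R', J.intersection_covering hR hR', fun T' k hk => ?_⟩
  obtain ⟨x, hx, hx'⟩ := h k hk.1
  obtain ⟨z, hz, hz'⟩ := h' k hk.2
  exact ⟨x, z, hx, hx', hz, hz'⟩

theorem β_add (T : C) (p : P.obj.obj (op T)) (q q' : Q.obj.obj (op T)) :
    β D T p (q + q') = β D T p q + β D T p q' := by
  obtain ⟨R, hR, h⟩ := exists_lifts (B := B) T p p q q'
  refine ext_ab D.K hR _ _ fun T' k hk => ?_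
  obtain ⟨x, z, hxP, hxQ, hzP, hzQ⟩ := h k hk
  rw [map_add, ← β_spec D k p q x hxP hxQ, ← β_spec D k p q' z hzP hzQ, ← map_add,
    ← D.f_add₂ T' x z (hxP.trans hzP.symm)]
  refine (β_spec D k p (q + q') _ ?_ ?_).symm
  · rw [B.πP_add₂, hxP]
  · rw [B.πQ_add₂, hxQ, hzQ, map_add]

theorem exists_δ (T : C) (p p' : P.obj.obj (op T)) (q : Q.obj.obj (op T)) :
    ∃ v : D.I.obj.obj (op T), ∀ ⦃T' : C⦄ (k : T' ⟶ T) (x z : B.E.obj.obj (op T')) (h : B.πQ T' x = B.πQ T' z),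
      B.πP T' x = P.obj.map k.op p → B.πP T' z = P.obj.map k.op p' → B.πQ T' x = Q.obj.map k.op q →
        D.f T' (B.add₁ T' x z h) - D.f T' x - D.f T' z = D.I.obj.map k.op v := by
  obtain ⟨R, hR, hl⟩ := exists_lifts (B := B) T p p' q q
  have hu : ∀ ⦃T' : C⦄ (x z x' z' : B.E.obj.obj (op T')) (h : B.πQ T' x = B.πQ T' z) (h' : B.πQ T' x' = B.πQ T' z'),
      B.πP T' x = B.πP T' x' → B.πP T' z = B.πP T' z' → B.πQ T' x = B.πQ T' x' →
      D.f T' (B.add₁ T' x z h) - D.f T' x - D.f T' z = D.f T' (B.add₁ T' x' z' h') - D.f T' x' - D.f T' z' := by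
    intro T' x z x' z' h h' hP hP' hQ
    obtain ⟨g, rfl⟩ := exists_act B x x' hP hQ
    obtain ⟨g', rfl⟩ := exists_act B z z' hP' (h.symm.trans (hQ.trans h'))
    rw [add₁_act' B g g' x z h, D.f_act, D.f_act, D.f_act, map_add]
    abel
  obtain ⟨v, hv⟩ := glue (isSheaf_ab D.I) T
    (fun T' k w => ∃ x z, ∃ h : B.πQ T' x = B.πQ T' z, B.πP T' x = P.obj.map k.op p ∧
      B.πP T' z = P.obj.map k.op p' ∧ B.πQ T' x = Q.obj.map k.op q ∧
      w = D.f T' (B.add₁ T' x z h) - D.f T' x - D.f T' z)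
    (by
      rintro T' T'' k l w ⟨x, z, h, hxP, hzP, hxQ, rfl⟩
      refine ⟨B.E.obj.map l.op x, B.E.obj.map l.op z, by rw [B.πQ_map, B.πQ_map, h], by rw [B.πP_map, hxP, resA],
        by rw [B.πP_map, hzP, resA], by rw [B.πQ_map, hxQ, resA], ?_⟩
      show D.I.obj.map l.op _ = _
      rw [map_sub, map_sub, ← D.f_map, ← D.f_map, ← D.f_map, B.add₁_map l x z h])
    (by
      rintro T' k w w' ⟨x, z, h, hxP, hzP, hxQ, rfl⟩ ⟨x', z', h', hxP', hzP', hxQ', rfl⟩
      exact hu x z x' z' h h' (hxP.trans hxP'.symm) (hzP.trans hzP'.symm) (hxQ.trans hxQ'.symm))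
    R hR (fun T' k hk => by
      obtain ⟨x, z, hxP, hxQ, hzP, hzQ⟩ := hl k hk
      exact ⟨_, x, z, hxQ.trans hzQ.symm, hxP, hzP, hxQ, rfl⟩)
  refine ⟨v, fun T' k x z h hxP hzP hxQ => ext_ab D.I (J.pullback_stable k hR) _ _ fun T'' l hl' => ?_⟩
  obtain ⟨x', z', h', hxP', hzP', hxQ', e⟩ := hv (l ≫ k) hl'
  rw [resA, map_sub, map_sub, ← D.f_map, ← D.f_map, ← D.f_map, B.add₁_map l x z h]
  refine (hu _ _ x' z' _ h' ?_ ?_ ?_).trans e.symm
  · rw [B.πP_map, hxP, hxP', resA]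
  · rw [B.πP_map, hzP, hzP', resA]
  · rw [B.πQ_map, hxQ, hxQ', resA]

/-- The defect of additivity in the first variable. -/
def δ (T : C) (p p' : P.obj.obj (op T)) (q : Q.obj.obj (op T)) : D.I.obj.obj (op T) := (exists_δ D T p p' q).choose

theorem δ_spec {T T' : C} (k : T' ⟶ T) (p p' : P.obj.obj (op T)) (q : Q.obj.obj (op T))
    (x z : B.E.obj.obj (op T')) (h : B.πQ T' x = B.πQ T' z) (hxP : B.πP T' x = P.obj.map k.op p)
    (hzP : B.πP T' z = P.obj.map k.op p') (hxQ : B.πQ T' x = Q.obj.map k.op q) :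
    D.f T' (B.add₁ T' x z h) - D.f T' x - D.f T' z = D.I.obj.map k.op (δ D T p p' q) :=
  (exists_δ D T p p' q).choose_spec k x z h hxP hzP hxQ

theorem δ_map {T T' : C} (k : T' ⟶ T) (p p' : P.obj.obj (op T)) (q : Q.obj.obj (op T)) :
    δ D T' (P.obj.map k.op p) (P.obj.map k.op p') (Q.obj.map k.op q) = D.I.obj.map k.op (δ D T p p' q) := by
  obtain ⟨R, hR, hl⟩ := exists_lifts (B := B) T' (P.obj.map k.op p) (P.obj.map k.op p') (Q.obj.map k.op q) (Q.obj.map k.op q)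
  refine ext_ab D.I hR _ _ fun T'' l hl' => ?_
  obtain ⟨x, z, hxP, hxQ, hzP, hzQ⟩ := hl l hl'
  refine (δ_spec D l _ _ _ x z (hxQ.trans hzQ.symm) hxP hzP hxQ).symm.trans ?_
  refine Eq.trans ?_ (resA D.I k l _).symm
  exact δ_spec D (l ≫ k) p p' q x z _ (by rw [hxP, resA]) (by rw [hzP, resA]) (by rw [hxQ, resA])

theorem δ_add (T : C) (p p' : P.obj.obj (op T)) (q q' : Q.obj.obj (op T)) :
    δ D T p p' (q + q') = δ D T p p' q + δ D T p p' q' := by
  obtain ⟨R, hR, h⟩ := exists_lifts (B := B) T p p' q q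
  obtain ⟨R', hR', h'⟩ := exists_lifts (B := B) T p p' q' q'
  refine ext_ab D.I (J.intersection_covering hR hR') _ _ fun T' k hk => ?_
  obtain ⟨x, z, hxP, hxQ, hzP, hzQ⟩ := h k hk.1
  obtain ⟨y, t, hyP, hyQ, htP, htQ⟩ := h' k hk.2
  have hxy : B.πP T' x = B.πP T' y := hxP.trans hyP.symm
  have hzt : B.πP T' z = B.πP T' t := hzP.trans htP.symm
  have hxz : B.πQ T' x = B.πQ T' z := hxQ.trans hzQ.symm
  have hyt : B.πQ T' y = B.πQ T' t := hyQ.trans htQ.symm
  rw [map_add, ← δ_spec D k p p' q x z hxz hxP hzP hxQ, ← δ_spec D k p p' q' y t hyt hyP htP hyQ,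
    ← δ_spec D k p p' (q + q') (B.add₂ T' x y hxy) (B.add₂ T' z t hzt)
      ((B.πQ_add₂ T' x y hxy).trans ((congrArg₂ (· + ·) hxz hyt).trans (B.πQ_add₂ T' z t hzt).symm))
      (by rw [B.πP_add₂, hxP]) (by rw [B.πP_add₂, hzP]) (by rw [B.πQ_add₂, hxQ, hyQ, map_add]),
    B.compat T' x y z t hxy hzt hxz hyt, D.f_add₂, D.f_add₂, D.f_add₂]
  abel

theorem π_δ (T : C) (p p' : P.obj.obj (op T)) (q : Q.obj.obj (op T)) :
    D.π.hom.app (op T) (δ D T p p' q) = β D T (p + p') q - β D T p q - β D T p' q := by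
  obtain ⟨R, hR, h⟩ := exists_lifts (B := B) T p p' q q
  refine ext_ab D.K hR _ _ fun T' k hk => ?_
  obtain ⟨x, z, hxP, hxQ, hzP, hzQ⟩ := h k hk
  rw [← NatTrans.naturality_apply, ← δ_spec D k p p' q x z (hxQ.trans hzQ.symm) hxP hzP hxQ, map_sub, map_sub,
    map_sub, map_sub, β_spec D k p q x hxP hxQ, β_spec D k p' q z hzP hzQ,
    β_spec D k (p + p') q _ (by rw [B.πP_add₁, hxP, hzP, map_add]) (by rw [B.πQ_add₁, hxQ])]

theorem δ_comm (T : C) (p p' : P.obj.obj (op T)) (q : Q.obj.obj (op T)) : δ D T p p' q = δ D T p' p q := by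
  obtain ⟨R, hR, h⟩ := exists_lifts (B := B) T p p' q q
  refine ext_ab D.I hR _ _ fun T' k hk => ?_
  obtain ⟨x, z, hxP, hxQ, hzP, hzQ⟩ := h k hk
  rw [← δ_spec D k p p' q x z (hxQ.trans hzQ.symm) hxP hzP hxQ,
    ← δ_spec D k p' p q z x (hzQ.trans hxQ.symm) hzP hxP hzQ, B.add₁_comm]
  abel

theorem δ_assoc (T : C) (p p' p'' : P.obj.obj (op T)) (q : Q.obj.obj (op T)) :
    δ D T p p' q + δ D T (p + p') p'' q = δ D T p' p'' q + δ D T p (p' + p'') q := by
  obtain ⟨R, hR, h⟩ := exists_lifts (B := B) T p p' q q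
  obtain ⟨R', hR', h'⟩ := B.locallySurjective T p'' q
  refine ext_ab D.I (J.intersection_covering hR hR') _ _ fun T' k hk => ?_
  obtain ⟨x, z, hxP, hxQ, hzP, hzQ⟩ := h k hk.1
  obtain ⟨w, hwP, hwQ⟩ := h' k hk.2
  have hxz : B.πQ T' x = B.πQ T' z := hxQ.trans hzQ.symm
  have hzw : B.πQ T' z = B.πQ T' w := hzQ.trans hwQ.symm
  rw [map_add, map_add, ← δ_spec D k p p' q x z hxz hxP hzP hxQ,
    ← δ_spec D k (p + p') p'' q (B.add₁ T' x z hxz) w ((B.πQ_add₁ T' x z hxz).trans (hxz.trans hzw))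
      (by rw [B.πP_add₁, hxP, hzP, map_add]) hwP (by rw [B.πQ_add₁, hxQ]),
    ← δ_spec D k p' p'' q z w hzw hzP hwP hzQ,
    ← δ_spec D k p (p' + p'') q x (B.add₁ T' z w hzw) (hxz.trans (B.πQ_add₁ T' z w hzw).symm)
      hxP (by rw [B.πP_add₁, hzP, hwP, map_add]) hxQ,
    B.add₁_assoc T' x z w hxz hzw]
  abel

/-- `β` as a section of the internal Hom. -/
def βSec (T : C) (p : P.obj.obj (op T)) : (HomSh.homSh J Q D.K).obj.obj (op T) :=
  sec (fun V => AddMonoidHom.mk' (β D V.left (P.obj.map V.hom.op p)) (β_add D _ _)) fun {V V'} k q => by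
    show β D V'.left _ _ = D.K.obj.map k.left.op (β D V.left _ q)
    rw [← β_map, resA, Over.w k]

theorem ev_βSec (T : C) (p : P.obj.obj (op T)) (V : Over T) (q : Q.obj.obj (op V.left)) :
    ev (βSec D T p) V q = β D V.left (P.obj.map V.hom.op p) q := rfl

theorem βSec_map {T T' : C} (k : T' ⟶ T) (p : P.obj.obj (op T)) :
    βSec D T' (P.obj.map k.op p) = (HomSh.homSh J Q D.K).obj.map k.op (βSec D T p) :=
  ev_ext fun V q => by
    rw [ev_map, ev_βSec, ev_βSec, resA]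
    rfl

/-- `δ` as a section of the internal Hom. -/
def δSec (T : C) (p p' : P.obj.obj (op T)) : (HomSh.homSh J Q D.I).obj.obj (op T) :=
  sec (fun V => AddMonoidHom.mk' (δ D V.left (P.obj.map V.hom.op p) (P.obj.map V.hom.op p')) (δ_add D _ _ _))
    fun {V V'} k q => by
      show δ D V'.left _ _ _ = D.I.obj.map k.left.op (δ D V.left _ _ q)
      rw [← δ_map, resA, resA, Over.w k]

theorem ev_δSec (T : C) (p p' : P.obj.obj (op T)) (V : Over T) (q : Q.obj.obj (op V.left)) :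
    ev (δSec D T p p') V q = δ D V.left (P.obj.map V.hom.op p) (P.obj.map V.hom.op p') q := rfl

theorem δSec_map {T T' : C} (k : T' ⟶ T) (p p' : P.obj.obj (op T)) :
    δSec D T' (P.obj.map k.op p) (P.obj.map k.op p') = (HomSh.homSh J Q D.I).obj.map k.op (δSec D T p p') :=
  ev_ext fun V q => by
    rw [ev_map, ev_δSec, ev_δSec, resA, resA]
    rfl

theorem π_δSec (T : C) (p p' : P.obj.obj (op T)) :
    (HomSh.homShMap J (𝟙 Q) D.π).hom.app (op T) (δSec D T p p') + βSec D T p + βSec D T p' = βSec D T (p + p') :=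
  ev_ext fun V q => by
    rw [ev_add, ev_add, ev_homShMap, ev_δSec, ev_βSec, ev_βSec, ev_βSec, π_δ, map_add]
    abel

theorem δSec_comm (T : C) (p p' : P.obj.obj (op T)) : δSec D T p p' = δSec D T p' p :=
  ev_ext fun V q => by rw [ev_δSec, ev_δSec, δ_comm]

theorem δSec_assoc (T : C) (p p' p'' : P.obj.obj (op T)) :
    δSec D T p p' + δSec D T (p + p') p'' = δSec D T p' p'' + δSec D T p (p' + p'') :=
  ev_ext fun V q => by
    rw [ev_add, ev_add, ev_δSec, ev_δSec, ev_δSec, ev_δSec, map_add, map_add]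
    exact δ_assoc D _ _ _ _ q

end Groth.Agent.BiextCls
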