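import Groth.Agent.BiextCls.Glue

/-!
# The group over a point of the first factor of a biextension
-/

noncomputable section

set_option autoImplicit false
set_option linter.unusedSectionVars false

universe u

open CategoryTheory CategoryTheory.Limits Opposite

namespace Groth.Agent.BiextCls

open BiextDiv (add₁_congr add₂_congr add₁_act' add₂_act' act_inj)

variable {C : Type (u + 1)} [Category.{u} C] {J : GrothendieckTopology C} {P Q G : Sheaf J AddCommGrpCat.{u + 1}}
  (B : Biext J P Q G)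

theorem exists_act {T : C} (x y : B.E.obj.obj (op T)) (hP : B.πP T x = B.πP T y) (hQ : B.πQ T x = B.πQ T y) :
    ∃ g, B.act T g x = y := (B.existsUnique_act T x y hP hQ).exists

theorem add₂_left_cancel {T : C} (x y y' : B.E.obj.obj (op T)) (h : B.πP T x = B.πP T y) (h' : B.πP T x = B.πP T y')
    (e : B.add₂ T x y h = B.add₂ T x y' h') : y = y' := by
  have hQ : B.πQ T y = B.πQ T y' := by
    have := congrArg (B.πQ T) e
    rwa [B.πQ_add₂, B.πQ_add₂, add_right_inj] at this
  obtain ⟨g, rfl⟩ := exists_act B y y' (h.symm.trans h') hQ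
  have e' : B.add₂ T x (B.act T g y) h' = B.act T g (B.add₂ T x y h) := by
    rw [B.add₂_comm T x _ h', B.add₂_act T g y x h.symm, B.add₂_comm T y x h.symm]
  rw [e', ← B.zero_act T (B.add₂ T x y h)] at e
  have hg : g = 0 := (act_inj B (e.trans (by rw [B.zero_act]))).symm
  rw [hg, B.zero_act]

theorem exists_zero₂ (T : C) (p : P.obj.obj (op T)) :
    ∃ e : B.E.obj.obj (op T), ∃ (hP : B.πP T e = p), B.πQ T e = 0 ∧ B.add₂ T e e rfl = e := by
  obtain ⟨R, hR, hlift⟩ := B.locallySurjective T p 0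
  obtain ⟨e, he⟩ := glue (isSheaf_E B) T
    (fun T' f x => B.πP T' x = P.obj.map f.op p ∧ B.πQ T' x = 0 ∧ B.add₂ T' x x rfl = x)
    (by
      rintro T' T'' f k x ⟨hP, hQ, hx⟩
      refine ⟨by rw [B.πP_map, hP, resA], by rw [B.πQ_map, hQ, map_zero], ?_⟩
      rw [← B.add₂_map k x x rfl, hx])
    (by
      rintro T' f x y ⟨hP, hQ, hx⟩ ⟨hP', hQ', hy⟩
      obtain ⟨g, rfl⟩ := exists_act B x y (hP.trans hP'.symm) (hQ.trans hQ'.symm)
      rw [add₂_act' B g g x x rfl, hx] at hy
      have hg := act_inj B hy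
      rw [show g = 0 by simpa using hg, B.zero_act])
    R hR (fun T' f hf => by
      obtain ⟨x, hP, hQ⟩ := hlift f hf
      rw [map_zero] at hQ
      obtain ⟨c, hc⟩ := exists_act B x (B.add₂ T' x x rfl) (B.πP_add₂ T' x x rfl).symm
        (by rw [B.πQ_add₂, hQ, add_zero])
      refine ⟨B.act T' (-c) x, by rw [B.πP_act, hP], by rw [B.πQ_act, hQ], ?_⟩
      rw [add₂_act' B _ _ x x rfl, ← hc, ← B.add_act]
      congr 1
      abel)
  refine ⟨e, ?_, ?_, ?_⟩
  · exact ext_ab P hR _ _ fun T' f hf => by rw [← B.πP_map]; exact (he f hf).1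
  · exact ext_ab Q hR _ _ fun T' f hf => by rw [← B.πQ_map, map_zero]; exact (he f hf).2.1
  · exact (isSheaf_E B R hR).isSeparatedFor.ext fun T' f hf => by
      rw [B.add₂_map]; exact (he f hf).2.2

theorem zero₂_add {T : C} {e x : B.E.obj.obj (op T)} (hQ : B.πQ T e = 0) (he : B.add₂ T e e rfl = e)
    (h : B.πP T e = B.πP T x) : B.add₂ T e x h = x := by
  refine add₂_left_cancel B e _ _ (by rw [B.πP_add₂]) h ?_
  rw [← B.add₂_assoc T e e x rfl h]
  exact add₂_congr B he rfl _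

theorem exists_neg₂ {T : C} {e : B.E.obj.obj (op T)} (hQe : B.πQ T e = 0) (x : B.E.obj.obj (op T))
    (hPx : B.πP T e = B.πP T x) :
    ∃ y : B.E.obj.obj (op T), ∃ h : B.πP T x = B.πP T y, B.add₂ T x y h = e := by
  obtain ⟨R, hR, hlift⟩ := B.locallySurjective T (B.πP T x) (-B.πQ T x)
  obtain ⟨y, hy⟩ := glue (isSheaf_E B) T
    (fun T' f y => ∃ h : B.πP T' (B.E.obj.map f.op x) = B.πP T' y,
      B.add₂ T' (B.E.obj.map f.op x) y h = B.E.obj.map f.op e)
    (by
      rintro T' T'' f k y ⟨h, hy⟩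
      have e1 : B.E.obj.map k.op (B.E.obj.map f.op x) = B.E.obj.map (k ≫ f).op x := resE B f k x
      refine ⟨by rw [← e1, B.πP_map, B.πP_map k y, h], ?_⟩
      rw [add₂_congr B e1.symm rfl, ← B.add₂_map k _ y h, hy, resE])
    (by
      rintro T' f y y' ⟨h, hy⟩ ⟨h', hy'⟩
      exact add₂_left_cancel B _ y y' h h' (hy.trans hy'.symm))
    R hR (fun T' f hf => by
      obtain ⟨y, hP, hQ⟩ := hlift f hf
      have h : B.πP T' (B.E.obj.map f.op x) = B.πP T' y := by rw [B.πP_map, hP]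
      obtain ⟨c, hc⟩ := exists_act B (B.add₂ T' _ y h) (B.E.obj.map f.op e)
        (by rw [B.πP_add₂, B.πP_map, B.πP_map, hPx])
        (by rw [B.πQ_add₂, hQ, B.πQ_map, B.πQ_map, hQe, map_neg, map_zero, add_neg_cancel])
      refine ⟨B.act T' c y, by rw [B.πP_act, h], ?_⟩
      rw [B.add₂_comm T' _ _ (by rw [B.πP_act, h]), B.add₂_act T' c y _ h.symm, B.add₂_comm T' y _ h.symm, hc])
  have h : B.πP T x = B.πP T y := ext_ab P hR _ _ fun T' f hf => by
    rw [← B.πP_map, ← B.πP_map]; exact (hy f hf).1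
  exact ⟨y, h, (isSheaf_E B R hR).isSeparatedFor.ext fun T' f hf => by
    rw [B.add₂_map]; exact (hy f hf).2⟩

/-- The points over a given point of the first factor. -/
def Fib (T : C) (p : P.obj.obj (op T)) : Type (u + 1) := {x : B.E.obj.obj (op T) // B.πP T x = p}

variable (T : C) (p : P.obj.obj (op T))

/-- The unit over `p`. -/
def e₂ : Fib B T p := ⟨(exists_zero₂ B T p).choose, (exists_zero₂ B T p).choose_spec.choose⟩

theorem e₂_Q : B.πQ T (e₂ B T p).1 = 0 := (exists_zero₂ B T p).choose_spec.choose_spec.1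

theorem e₂_idem : B.add₂ T (e₂ B T p).1 (e₂ B T p).1 rfl = (e₂ B T p).1 :=
  (exists_zero₂ B T p).choose_spec.choose_spec.2

instance : Add (Fib B T p) :=
  ⟨fun x y => ⟨B.add₂ T x.1 y.1 (x.2.trans y.2.symm), (B.πP_add₂ _ _ _ _).trans x.2⟩⟩

instance : Zero (Fib B T p) := ⟨e₂ B T p⟩

instance : Neg (Fib B T p) :=
  ⟨fun x => ⟨(exists_neg₂ B (e₂_Q B T p) x.1 ((e₂ B T p).2.trans x.2.symm)).choose,
    (exists_neg₂ B (e₂_Q B T p) x.1 ((e₂ B T p).2.trans x.2.symm)).choose_spec.choose.symm.trans x.2⟩⟩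

theorem zero_add' (x : Fib B T p) : 0 + x = x :=
  Subtype.ext (zero₂_add B (e₂_Q B T p) (e₂_idem B T p) ((e₂ B T p).2.trans x.2.symm))

instance : AddCommGroup (Fib B T p) where
  add_assoc x y z := Subtype.ext (B.add₂_assoc T x.1 y.1 z.1 (x.2.trans y.2.symm) (y.2.trans z.2.symm))
  zero_add := zero_add' B T p
  add_zero x := (Subtype.ext (B.add₂_comm T x.1 _ (x.2.trans (e₂ B T p).2.symm))).trans (zero_add' B T p x)
  add_comm x y := Subtype.ext (B.add₂_comm T x.1 y.1 (x.2.trans y.2.symm))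
  neg_add_cancel x := by
    refine Subtype.ext ?_
    show B.add₂ T _ x.1 _ = _
    rw [B.add₂_comm]
    exact (exists_neg₂ B (e₂_Q B T p) x.1 ((e₂ B T p).2.trans x.2.symm)).choose_spec.choose_spec
  nsmul := nsmulRec
  zsmul := zsmulRec

/-- The structural inclusion of the fibre of the action. -/
def incl : G.obj.obj (op T) →+ Fib B T p :=
  AddMonoidHom.mk' (fun g => ⟨B.act T g (e₂ B T p).1, (B.πP_act _ _ _).trans (e₂ B T p).2⟩) fun g g' => Subtype.ext (by
    show _ = B.add₂ T (B.act T g _) (B.act T g' _) _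
    rw [add₂_act' B g g' _ _ rfl, e₂_idem])

theorem incl_injective : Function.Injective (incl B T p) := fun _ _ h =>
  act_inj B (congrArg Subtype.val h)

theorem act_eq_add (g : G.obj.obj (op T)) (x : Fib B T p) :
    (⟨B.act T g x.1, (B.πP_act _ _ _).trans x.2⟩ : Fib B T p) = incl B T p g + x := by
  refine Subtype.ext ?_
  show _ = B.add₂ T (B.act T g _) x.1 _
  rw [B.add₂_act T g _ x.1 ((e₂ B T p).2.trans x.2.symm)]
  exact congrArg (B.act T g) (congrArg Subtype.val (zero_add' B T p x)).symm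

end Groth.Agent.BiextCls
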