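import Groth.Agent.BiextDiv.Main

/-!
# Gluing sections of a biextension
-/

noncomputable section

set_option autoImplicit false
set_option linter.unusedSectionVars false

universe u

open CategoryTheory CategoryTheory.Limits Opposite

namespace Groth.Agent.BiextCls

variable {C : Type (u + 1)} [Category.{u} C] {J : GrothendieckTopology C}

/-- A stable local condition with unique solutions on every member has a glued solution. -/
theorem glue {F : Cᵒᵖ ⥤ Type (u + 1)} (hF : Presieve.IsSheaf J F) (T : C)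
    (Φ : ∀ ⦃T' : C⦄, (T' ⟶ T) → F.obj (op T') → Prop)
    (hres : ∀ ⦃T' T'' : C⦄ (f : T' ⟶ T) (k : T'' ⟶ T') x, Φ f x → Φ (k ≫ f) (F.map k.op x))
    (huniq : ∀ ⦃T' : C⦄ (f : T' ⟶ T) x y, Φ f x → Φ f y → x = y)
    (R : Sieve T) (hR : R ∈ J T) (hex : ∀ ⦃T' : C⦄ (f : T' ⟶ T), R f → ∃ x, Φ f x) :
    ∃ x : F.obj (op T), ∀ ⦃T' : C⦄ (f : T' ⟶ T), R f → Φ f (F.map f.op x) := by
  choose x hx using hex
  let fam : Presieve.FamilyOfElements F R.arrows := fun T' f hf => x f hf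
  have hc : fam.Compatible := fun T₁ T₂ Z g₁ g₂ k₁ k₂ hk₁ hk₂ e =>
    huniq (g₁ ≫ k₁) _ _ (hres k₁ g₁ _ (hx k₁ hk₁)) (by rw [e]; exact hres k₂ g₂ _ (hx k₂ hk₂))
  obtain ⟨v, hv, -⟩ := hF R hR fam hc
  exact ⟨v, fun T' f hf => by rw [hv f hf]; exact hx f hf⟩

variable {P Q G : Sheaf J AddCommGrpCat.{u + 1}} (B : Biext J P Q G)

theorem isSheaf_E : Presieve.IsSheaf J B.E.obj := (isSheaf_iff_isSheaf_of_type J _).1 B.E.property

theorem isSheaf_ab (F : Sheaf J AddCommGrpCat.{u + 1}) : Presieve.IsSheaf J (F.obj ⋙ forget AddCommGrpCat.{u + 1}) :=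
  (isSheaf_iff_isSheaf_of_type J _).1 (Biext.uSh J F).property

theorem ext_ab (F : Sheaf J AddCommGrpCat.{u + 1}) {T : C} {R : Sieve T} (hR : R ∈ J T) (a b : F.obj.obj (op T))
    (h : ∀ ⦃T' : C⦄ (f : T' ⟶ T), R f → F.obj.map f.op a = F.obj.map f.op b) : a = b :=
  ((isSheaf_ab F) R hR).isSeparatedFor.ext h

theorem resE {T T' T'' : C} (k : T' ⟶ T) (l : T'' ⟶ T') (x : B.E.obj.obj (op T)) :
    B.E.obj.map l.op (B.E.obj.map k.op x) = B.E.obj.map (l ≫ k).op x := by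
  rw [op_comp, Functor.map_comp]; rfl

theorem resA (F : Sheaf J AddCommGrpCat.{u + 1}) {T T' T'' : C} (k : T' ⟶ T) (l : T'' ⟶ T') (x : F.obj.obj (op T)) :
    F.obj.map l.op (F.obj.map k.op x) = F.obj.map (l ≫ k).op x := by
  rw [op_comp, Functor.map_comp]; rfl

theorem resA_id (F : Sheaf J AddCommGrpCat.{u + 1}) {T : C} (x : F.obj.obj (op T)) : F.obj.map (𝟙 T).op x = x := by
  rw [op_id, F.obj.map_id]; rfl

/-- A value attached to pairs, defined on members and independent of the member, glues. -/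
theorem existsUnique_value (K : Sheaf J AddCommGrpCat.{u + 1}) (T : C) (p : P.obj.obj (op T)) (q : Q.obj.obj (op T))
    (val : ∀ ⦃T' : C⦄, B.E.obj.obj (op T') → K.obj.obj (op T'))
    (hnat : ∀ ⦃T' T'' : C⦄ (k : T'' ⟶ T') (x : B.E.obj.obj (op T')), val (B.E.obj.map k.op x) = K.obj.map k.op (val x))
    (hfib : ∀ ⦃T' : C⦄ (x y : B.E.obj.obj (op T')), B.πP T' x = B.πP T' y → B.πQ T' x = B.πQ T' y → val x = val y) :
    ∃! v : K.obj.obj (op T), ∀ ⦃T' : C⦄ (f : T' ⟶ T) (x : B.E.obj.obj (op T')),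
      B.πP T' x = P.obj.map f.op p → B.πQ T' x = Q.obj.map f.op q → val x = K.obj.map f.op v := by
  obtain ⟨R, hR, hlift⟩ := B.locallySurjective T p q
  obtain ⟨v, hv⟩ := glue (isSheaf_ab K) T
    (fun T' f w => ∃ x, B.πP T' x = P.obj.map f.op p ∧ B.πQ T' x = Q.obj.map f.op q ∧ val x = w)
    (by
      rintro T' T'' f k w ⟨x, hP, hQ, rfl⟩
      exact ⟨B.E.obj.map k.op x, by rw [B.πP_map, hP, resA], by rw [B.πQ_map, hQ, resA], hnat k x⟩)
    (by
      rintro T' f w w' ⟨x, hP, hQ, rfl⟩ ⟨y, hP', hQ', rfl⟩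
      exact hfib x y (hP.trans hP'.symm) (hQ.trans hQ'.symm))
    R hR (fun T' f hf => by
      obtain ⟨x, hP, hQ⟩ := hlift f hf
      exact ⟨val x, x, hP, hQ, rfl⟩)
  refine ⟨v, fun T' f x hP hQ => ext_ab K (J.pullback_stable f hR) _ _ fun T'' l hl => ?_, fun w hw => ?_⟩
  · obtain ⟨y, hP', hQ', hy⟩ := hv (l ≫ f) hl
    rw [← hnat, resA K]
    refine Eq.trans ?_ hy
    exact hfib _ _ (by rw [B.πP_map, hP, hP', resA]) (by rw [B.πQ_map, hQ, hQ', resA])
  · refine ext_ab K hR _ _ fun T' f hf => ?_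
    obtain ⟨x, hP, hQ, hx⟩ := hv f hf
    exact (hw f x hP hQ).symm.trans hx

end Groth.Agent.BiextCls
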