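import Groth.Agent.BiextCls.Classes
import Groth.Agent.QCoh.RpushGod
import Mathlib.Algebra.Homology.DerivedCategory.Ext.ExactSequences

/-!
# Biextensions are trivial when the two classifying groups vanish
-/

noncomputable section

set_option autoImplicit false
set_option linter.unusedSectionVars false

universe u

open CategoryTheory CategoryTheory.Limits Opposite

namespace Groth.Agent.BiextCls

variable {C : Type (u + 1)} [Category.{u} C] {J : GrothendieckTopology C} {P Q G : Sheaf J AddCommGrpCat.{u + 1}}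
  {B : Biext J P Q G} (D : Pres B)

/-- A local trivialisation over a point of the first factor. -/
def Triv (T : C) : Type (u + 1) :=
  {z : P.obj.obj (op T) × (HomSh.homSh J Q D.I).obj.obj (op T) //
    (HomSh.homShMap J (𝟙 Q) D.π).hom.app (op T) z.2 = βSec D T z.1}

theorem δSec_zero_left (T : C) (p : P.obj.obj (op T)) : δSec D T 0 p = δSec D T 0 0 := by
  have h := δSec_assoc D T 0 0 p
  rw [zero_add, zero_add] at h
  exact (add_right_cancel h).symm

theorem π_δSec' (T : C) (p p' : P.obj.obj (op T)) :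
    (HomSh.homShMap J (𝟙 Q) D.π).hom.app (op T) (δSec D T p p') = βSec D T (p + p') - βSec D T p - βSec D T p' := by
  rw [← π_δSec D T p p']; abel

theorem π_δSec_zero (T : C) :
    (HomSh.homShMap J (𝟙 Q) D.π).hom.app (op T) (δSec D T 0 0) = -βSec D T 0 := by
  rw [π_δSec', add_zero]; abel

instance (T : C) : Add (Triv D T) :=
  ⟨fun a b => ⟨(a.1.1 + b.1.1, a.1.2 + b.1.2 + δSec D T a.1.1 b.1.1), by
    rw [map_add, map_add, a.2, b.2, π_δSec']; abel⟩⟩

instance (T : C) : Zero (Triv D T) := ⟨⟨(0, -δSec D T 0 0), by rw [map_neg, π_δSec_zero, neg_neg]⟩⟩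

instance (T : C) : Neg (Triv D T) :=
  ⟨fun a => ⟨(-a.1.1, -a.1.2 - δSec D T (-a.1.1) a.1.1 - δSec D T 0 0), by
    rw [map_sub, map_sub, map_neg, a.2, π_δSec', π_δSec_zero, neg_add_cancel]; abel⟩⟩

instance (T : C) : AddCommGroup (Triv D T) where
  add_assoc a b c := Subtype.ext (Prod.ext (add_assoc _ _ _) (by
    show a.1.2 + b.1.2 + δSec D T a.1.1 b.1.1 + c.1.2 + δSec D T (a.1.1 + b.1.1) c.1.1 =
      a.1.2 + (b.1.2 + c.1.2 + δSec D T b.1.1 c.1.1) + δSec D T a.1.1 (b.1.1 + c.1.1)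
    have e : δSec D T (a.1.1 + b.1.1) c.1.1 = δSec D T b.1.1 c.1.1 + δSec D T a.1.1 (b.1.1 + c.1.1) - δSec D T a.1.1 b.1.1 := by
      rw [← δSec_assoc]; abel
    rw [e]; abel))
  zero_add a := Subtype.ext (Prod.ext (zero_add _) (by
    show -δSec D T 0 0 + a.1.2 + δSec D T 0 a.1.1 = a.1.2
    rw [δSec_zero_left D T a.1.1]; abel))
  add_zero a := Subtype.ext (Prod.ext (add_zero _) (by
    show a.1.2 + -δSec D T 0 0 + δSec D T a.1.1 0 = a.1.2
    rw [δSec_comm D T a.1.1, δSec_zero_left D T a.1.1]; abel))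
  add_comm a b := Subtype.ext (Prod.ext (add_comm _ _) (by
    show a.1.2 + b.1.2 + δSec D T a.1.1 b.1.1 = b.1.2 + a.1.2 + δSec D T b.1.1 a.1.1
    rw [δSec_comm D T a.1.1]; abel))
  neg_add_cancel a := Subtype.ext (Prod.ext (neg_add_cancel _) (by
    show -a.1.2 - δSec D T (-a.1.1) a.1.1 - δSec D T 0 0 + a.1.2 + δSec D T (-a.1.1) a.1.1 = -δSec D T 0 0
    abel))
  nsmul := nsmulRec
  zsmul := zsmulRec

theorem add_fst {T : C} (a b : Triv D T) : (a + b).1.1 = a.1.1 + b.1.1 := rfl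

theorem add_snd {T : C} (a b : Triv D T) : (a + b).1.2 = a.1.2 + b.1.2 + δSec D T a.1.1 b.1.1 := rfl

/-- Restriction of local trivialisations. -/
def trivMap {T T' : C} (k : T' ⟶ T) : Triv D T →+ Triv D T' :=
  AddMonoidHom.mk' (fun a => ⟨(P.obj.map k.op a.1.1, (HomSh.homSh J Q D.I).obj.map k.op a.1.2), by
      rw [NatTrans.naturality_apply, a.2, βSec_map]⟩) fun a b =>
    Subtype.ext (Prod.ext (map_add (P.obj.map k.op).hom _ _) (by
      show (HomSh.homSh J Q D.I).obj.map k.op (a.1.2 + b.1.2 + δSec D T a.1.1 b.1.1) =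
        (HomSh.homSh J Q D.I).obj.map k.op a.1.2 + (HomSh.homSh J Q D.I).obj.map k.op b.1.2 +
          δSec D T' (P.obj.map k.op a.1.1) (P.obj.map k.op b.1.1)
      rw [map_add, map_add, δSec_map]))

/-- The presheaf of local trivialisations. -/
def trivPre : Cᵒᵖ ⥤ AddCommGrpCat.{u + 1} where
  obj T := AddCommGrpCat.of (Triv D T.unop)
  map k := AddCommGrpCat.ofHom (trivMap D k.unop)
  map_id T := AddCommGrpCat.hom_ext (AddMonoidHom.ext fun a => Subtype.ext (Prod.ext
    (congr($(P.obj.map_id T) a.1.1)) (congr($((HomSh.homSh J Q D.I).obj.map_id T) a.1.2))))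
  map_comp k l := AddCommGrpCat.hom_ext (AddMonoidHom.ext fun a => Subtype.ext (Prod.ext
    (congr($(P.obj.map_comp k l) a.1.1)) (congr($((HomSh.homSh J Q D.I).obj.map_comp k l) a.1.2))))

theorem isSheaf_trivPre : Presheaf.IsSheaf J (trivPre D) := by
  refine Presheaf.isSheaf_of_isSheaf_comp J _ (forget AddCommGrpCat.{u + 1}) ?_
  refine (isSheaf_iff_isSheaf_of_type J _).2 fun {T} R hR fam hfam => ?_
  have hP : Presieve.FamilyOfElements.Compatible (P := P.obj ⋙ forget AddCommGrpCat.{u + 1}) (R := R.arrows)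
      (fun T' k hk => (fam k hk).1.1) :=
    fun T₁ T₂ Z g₁ g₂ k₁ k₂ h₁ h₂ e => congrArg (fun z => z.1.1) (hfam g₁ g₂ h₁ h₂ e)
  have hH : Presieve.FamilyOfElements.Compatible (P := (HomSh.homSh J Q D.I).obj ⋙ forget AddCommGrpCat.{u + 1})
      (R := R.arrows) (fun T' k hk => (fam k hk).1.2) :=
    fun T₁ T₂ Z g₁ g₂ k₁ k₂ h₁ h₂ e => congrArg (fun z => z.1.2) (hfam g₁ g₂ h₁ h₂ e)
  obtain ⟨p, hp, hp'⟩ := isSheaf_ab P R hR _ hP
  obtain ⟨h, hh, hh'⟩ := isSheaf_ab (HomSh.homSh J Q D.I) R hR _ hH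
  have hcond : (HomSh.homShMap J (𝟙 Q) D.π).hom.app (op T) h = βSec D T p := by
    refine ext_ab (HomSh.homSh J Q D.K) hR _ _ fun T' k hk => ?_
    have e1 : P.obj.map k.op p = (fam k hk).1.1 := hp k hk
    have e2 : (HomSh.homSh J Q D.I).obj.map k.op h = (fam k hk).1.2 := hh k hk
    rw [← NatTrans.naturality_apply, ← βSec_map, e1, e2]
    exact (fam k hk).2
  refine ⟨⟨(p, h), hcond⟩, fun T' k hk => Subtype.ext (Prod.ext (hp k hk) (hh k hk)), fun y hy =>
    Subtype.ext (Prod.ext (hp' y.1.1 fun T' k hk => congrArg (fun z => z.1.1) (hy k hk))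
      (hh' y.1.2 fun T' k hk => congrArg (fun z => z.1.2) (hy k hk)))⟩

/-- The sheaf of local trivialisations. -/
def trivSh : Sheaf J AddCommGrpCat.{u + 1} := ⟨trivPre D, isSheaf_trivPre D⟩

/-- The projection to the first factor. -/
def trivProj : trivSh D ⟶ P :=
  ⟨{ app := fun T => AddCommGrpCat.ofHom (AddMonoidHom.mk' (fun a : Triv D T.unop => a.1.1) (fun _ _ => rfl))
     naturality := fun _ _ _ => rfl }⟩

/-- The inclusion of the homomorphisms into the group, on sections. -/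
def inclFun (T : C) : (HomSh.homSh J Q G).obj.obj (op T) →+ Triv D T :=
  AddMonoidHom.mk'
    (fun l => ⟨(0, (HomSh.homShMap J (𝟙 Q) D.i).hom.app (op T) l - δSec D T 0 0), by
      have e : (HomSh.homShMap J (𝟙 Q) D.π).hom.app (op T) ((HomSh.homShMap J (𝟙 Q) D.i).hom.app (op T) l) = 0 :=
        ev_ext fun V q => by rw [ev_homShMap, ev_homShMap, π_i, ev_zero]
      rw [map_sub, e, zero_sub]
      exact neg_eq_iff_eq_neg.2 (π_δSec_zero D T)⟩)
    fun l l' => Subtype.ext (Prod.ext (zero_add _).symm (by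
      show (HomSh.homShMap J (𝟙 Q) D.i).hom.app (op T) (l + l') - δSec D T 0 0 =
        (HomSh.homShMap J (𝟙 Q) D.i).hom.app (op T) l - δSec D T 0 0 +
          ((HomSh.homShMap J (𝟙 Q) D.i).hom.app (op T) l' - δSec D T 0 0) + δSec D T 0 0
      rw [map_add]; abel))

theorem inclFun_map {T T' : C} (k : T' ⟶ T) (l : (HomSh.homSh J Q G).obj.obj (op T)) :
    inclFun D T' ((HomSh.homSh J Q G).obj.map k.op l) = trivMap D k (inclFun D T l) := by
  refine Subtype.ext (Prod.ext (map_zero (P.obj.map k.op).hom).symm ?_)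
  show (HomSh.homShMap J (𝟙 Q) D.i).hom.app (op T') ((HomSh.homSh J Q G).obj.map k.op l) - δSec D T' 0 0 =
    (HomSh.homSh J Q D.I).obj.map k.op ((HomSh.homShMap J (𝟙 Q) D.i).hom.app (op T) l - δSec D T 0 0)
  rw [NatTrans.naturality_apply, map_sub]
  congr 1
  have h := δSec_map D k 0 0
  rw [map_zero] at h
  exact h

/-- The inclusion of the homomorphisms into the group. -/
def trivIncl : HomSh.homSh J Q G ⟶ trivSh D :=
  ⟨{ app := fun T => AddCommGrpCat.ofHom (inclFun D T.unop)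
     naturality := fun _ _ k => AddCommGrpCat.hom_ext (AddMonoidHom.ext fun l => inclFun_map D k.unop l) }⟩

variable [HasSheafify J AddCommGrpCat.{u + 1}] [J.WEqualsLocallyBijective AddCommGrpCat.{u + 1}]
  (hS : (ShortComplex.mk D.i D.π D.w).ShortExact)

include hS in
/-- A splitting from a compatible family of local trivialisations. -/
theorem isTrivial_of_section (s : P ⟶ trivSh D) (hs : s ≫ trivProj D = 𝟙 P) : Biext.IsTrivial J B := by
  haveI := hS.mono_f
  let h : ∀ T, P.obj.obj (op T) → (HomSh.homSh J Q D.I).obj.obj (op T) := fun T p =>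
    (show Triv D T from s.hom.app (op T) p).1.2
  have hp : ∀ T p, (show Triv D T from s.hom.app (op T) p).1.1 = p := fun T p => congr(($hs).hom.app (op T) p)
  have hπ : ∀ T p, (HomSh.homShMap J (𝟙 Q) D.π).hom.app (op T) (h T p) = βSec D T p := fun T p => by
    refine (show Triv D T from s.hom.app (op T) p).2.trans ?_
    rw [hp]
  have hadd : ∀ T p p', h T (p + p') = h T p + h T p' + δSec D T p p' := fun T p p' => by
    show (show Triv D T from s.hom.app (op T) (p + p')).1.2 = _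
    rw [map_add]
    refine (add_snd D _ _).trans ?_
    rw [hp, hp]
  have hnat : ∀ {T T' : C} (k : T' ⟶ T) p, h T' (P.obj.map k.op p) = (HomSh.homSh J Q D.I).obj.map k.op (h T p) :=
    fun {T T'} k p => congrArg (fun z : Triv D T' => z.1.2) (NatTrans.naturality_apply s.hom k.op p)
  let v : ∀ T, P.obj.obj (op T) → Q.obj.obj (op T) → D.I.obj.obj (op T) := fun T p q => ev (h T p) (Over.mk (𝟙 T)) q
  have hv : ∀ {T T' : C} (k : T' ⟶ T) p q, v T' (P.obj.map k.op p) (Q.obj.map k.op q) = D.I.obj.map k.op (v T p q) := by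
    intro T T' k p q
    show ev (h T' _) _ _ = _
    rw [hnat, ev_map]
    have := ev_res (h T p) (V := Over.mk (𝟙 T)) (V' := (Over.map k).obj (Over.mk (𝟙 T')))
      (Over.homMk k (by simp)) q
    exact this
  have hvπ : ∀ T p q, D.π.hom.app (op T) (v T p q) = β D T p q := fun T p q => by
    refine (ev_homShMap D.π (h T p) (Over.mk (𝟙 T)) q).symm.trans ?_
    rw [hπ, ev_βSec]
    show β D T (P.obj.map (𝟙 T).op p) q = _
    rw [resA_id]
  have hex : ∀ T p q, ∃ x : B.E.obj.obj (op T), B.πP T x = p ∧ B.πQ T x = q ∧ D.f T x = v T p q := by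
    intro T p q
    obtain ⟨R, hR, hl⟩ := B.locallySurjective T p q
    obtain ⟨x, hx⟩ := glue (isSheaf_E B) T
      (fun T' k x => B.πP T' x = P.obj.map k.op p ∧ B.πQ T' x = Q.obj.map k.op q ∧
        D.f T' x = D.I.obj.map k.op (v T p q))
      (by
        rintro T' T'' k l x ⟨hP, hQ, hf⟩
        exact ⟨by rw [B.πP_map, hP, resA], by rw [B.πQ_map, hQ, resA], by rw [D.f_map, hf, resA]⟩)
      (by
        rintro T' k x y ⟨hP, hQ, hf⟩ ⟨hP', hQ', hf'⟩
        obtain ⟨g, rfl⟩ := exists_act B x y (hP.trans hP'.symm) (hQ.trans hQ'.symm)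
        rw [D.f_act, hf, add_eq_right] at hf'
        rw [app_injective hS.exact T' (hf'.trans (map_zero _).symm), B.zero_act])
      R hR (fun T' k hk => by
        obtain ⟨x, hP, hQ⟩ := hl k hk
        have e : D.π.hom.app (op T') (D.I.obj.map k.op (v T p q) - D.f T' x) = 0 := by
          rw [map_sub, β_spec D k p q x hP hQ, NatTrans.naturality_apply, hvπ, sub_self]
        obtain ⟨g, hg⟩ := app_exact hS.exact T' _ e
        refine ⟨B.act T' g x, by rw [B.πP_act, hP], by rw [B.πQ_act, hQ], ?_⟩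
        rw [D.f_act, hg, sub_add_cancel])
    exact ⟨x, ext_ab P hR _ _ fun T' k hk => by rw [← B.πP_map]; exact (hx k hk).1,
      ext_ab Q hR _ _ fun T' k hk => by rw [← B.πQ_map]; exact (hx k hk).2.1,
      ext_ab D.I hR _ _ fun T' k hk => by rw [← D.f_map]; exact (hx k hk).2.2⟩
  have huniq : ∀ T (x y : B.E.obj.obj (op T)), B.πP T x = B.πP T y → B.πQ T x = B.πQ T y →
      D.f T x = D.f T y → x = y := by
    intro T x y hP hQ hf
    obtain ⟨g, rfl⟩ := exists_act B x y hP hQ
    rw [D.f_act, right_eq_add] at hf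
    rw [app_injective hS.exact T (hf.trans (map_zero _).symm), B.zero_act]
  choose σ hσP hσQ hσf using hex
  refine ⟨⟨σ, hσP, hσQ, fun {T T'} k p q => huniq T' _ _ ?_ ?_ ?_, fun T p p' q => huniq T _ _ ?_ ?_ ?_,
    fun T p q q' => huniq T _ _ ?_ ?_ ?_⟩⟩
  · rw [B.πP_map, hσP, hσP]
  · rw [B.πQ_map, hσQ, hσQ]
  · rw [D.f_map, hσf, hσf, hv]
  · rw [B.πP_add₁, hσP, hσP, hσP]
  · rw [B.πQ_add₁, hσQ, hσQ]
  · have e := δ_spec D (𝟙 T) p p' q (σ T p q) (σ T p' q) ((hσQ T p q).trans (hσQ T p' q).symm)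
      (by rw [hσP, resA_id]) (by rw [hσP, resA_id]) (by rw [hσQ, resA_id])
    rw [resA_id, sub_sub, sub_eq_iff_eq_add, hσf, hσf] at e
    rw [e, hσf]
    show v T (p + p') q = δ D T p p' q + (v T p q + v T p' q)
    refine (congrArg (fun z => ev z (Over.mk (𝟙 T)) q) (hadd T p p')).trans ?_
    refine (ev_add _ _ _ _).trans ?_
    rw [ev_add, ev_δSec]
    have e2 : δ D (Over.mk (𝟙 T)).left (P.obj.map (Over.mk (𝟙 T)).hom.op p) (P.obj.map (Over.mk (𝟙 T)).hom.op p') q =
        δ D T p p' q := by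
      show δ D T (P.obj.map (𝟙 T).op p) (P.obj.map (𝟙 T).op p') q = _
      rw [resA_id, resA_id]
    rw [e2]
    exact add_comm _ _
  · rw [B.πP_add₂, hσP, hσP]
  · rw [B.πQ_add₂, hσQ, hσQ, hσQ]
  · rw [D.f_add₂, hσf, hσf, hσf]
    exact map_add (ev (h T p) (Over.mk (𝟙 T))) q q'

include hS in
theorem shortExact_triv
    (hloc : ∀ T (p : P.obj.obj (op T)), ∃ R ∈ J T, ∀ ⦃T' : C⦄ (k : T' ⟶ T), R k →
      ∃ l : (HomSh.homSh J Q D.I).obj.obj (op T'),
        (HomSh.homShMap J (𝟙 Q) D.π).hom.app (op T') l = (HomSh.homSh J Q D.K).obj.map k.op (βSec D T p)) :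
    ∃ w : trivIncl D ≫ trivProj D = 0, (ShortComplex.mk (trivIncl D) (trivProj D) w).ShortExact := by
  haveI := hS.mono_f
  have w : trivIncl D ≫ trivProj D = 0 :=
    Sheaf.hom_ext (NatTrans.ext (funext fun T => AddCommGrpCat.hom_ext (AddMonoidHom.ext fun l => rfl)))
  have hi : ∀ T, Function.Injective ((trivIncl D).hom.app (op T)) := fun T a b hab => by
    have h := congrArg (fun z : Triv D T => z.1.2) hab
    exact ev_ext fun V q => app_injective hS.exact V.left (by
      rw [← ev_homShMap, ← ev_homShMap]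
      exact congrArg (fun z => ev z V q) (sub_left_inj.1 h))
  have hlift : ∀ T (a : Triv D T), a.1.1 = 0 → ∃ l, (trivIncl D).hom.app (op T) l = a := by
    intro T a ha
    obtain ⟨l, hl⟩ := exists_ev_lift (S := ShortComplex.mk D.i D.π D.w) hS.exact (a.1.2 + δSec D T 0 0) fun V q => by
      show D.π.hom.app (op V.left) (ev (a.1.2 + δSec D T 0 0) V q) = 0
      rw [← ev_homShMap, map_add, a.2, π_δSec_zero, ha, add_neg_cancel, ev_zero]
    refine ⟨l, Subtype.ext (Prod.ext ha.symm ?_)⟩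
    show (HomSh.homShMap J (𝟙 Q) D.i).hom.app (op T) l - δSec D T 0 0 = a.1.2
    rw [sub_eq_iff_eq_add]
    exact ev_ext fun V q => (ev_homShMap D.i l V q).trans (hl V q)
  haveI : Mono (trivIncl D) := by
    haveI : Mono (trivIncl D).hom := by
      haveI : ∀ T, Mono ((trivIncl D).hom.app T) := fun T => (AddCommGrpCat.mono_iff_injective _).2 (hi T.unop)
      exact NatTrans.mono_of_mono_app _
    exact (sheafToPresheaf J AddCommGrpCat.{u + 1}).mono_of_mono_map this
  haveI : Epi (trivProj D) := by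
    haveI : Sheaf.IsLocallySurjective (trivProj D) := ⟨fun {T} p => by
      obtain ⟨R, hR, h⟩ := hloc T p
      refine J.superset_covering (fun T' k hk => ?_) hR
      obtain ⟨l, hl⟩ := h k hk
      exact ⟨(⟨(P.obj.map k.op p, l), by rw [hl, βSec_map]⟩ : Triv D T'), rfl⟩⟩
    exact (Sheaf.isLocallySurjective_iff_epi' _ _).1 inferInstance
  refine ⟨w, { exact := ShortComplex.exact_of_f_is_kernel _ (KernelFork.IsLimit.ofι' _ _ fun {W} k hk => ?_),
               mono_f := inferInstance, epi_g := inferInstance }⟩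
  have h0 : ∀ T (a : W.obj.obj (op T)), (show Triv D T from k.hom.app (op T) a).1.1 = 0 := fun T a =>
    congr(($hk).hom.app (op T) a)
  choose l hl using fun T a => hlift T _ (h0 T a)
  refine ⟨⟨{ app := fun T => AddCommGrpCat.ofHom (AddMonoidHom.mk' (l T.unop) fun a b => hi T.unop (by
      refine (hl _ _).trans ?_
      refine Eq.trans ?_ (map_add ((trivIncl D).hom.app (op T.unop)).hom _ _).symm
      refine (map_add (k.hom.app T).hom a b).trans ?_
      exact congrArg₂ (· + ·) (hl _ a).symm (hl _ b).symm))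
             naturality := fun T T' m => AddCommGrpCat.hom_ext (AddMonoidHom.ext fun a => hi T'.unop ?_) }⟩, ?_⟩
  · show (trivIncl D).hom.app _ (l T'.unop (W.obj.map m a)) =
      (trivIncl D).hom.app _ ((HomSh.homSh J Q G).obj.map m (l T.unop a))
    rw [hl, NatTrans.naturality_apply, NatTrans.naturality_apply]
    exact congrArg ((trivSh D).obj.map m) (hl T.unop a).symm
  · exact Sheaf.hom_ext (NatTrans.ext (funext fun T => AddCommGrpCat.hom_ext (AddMonoidHom.ext fun a => hl T.unop a)))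

omit hS in
/-- A section of the target killed in the cokernel lifts locally. -/
theorem exists_local_preimage {A A' : Sheaf J AddCommGrpCat.{u + 1}} (φ : A ⟶ A') {T : C} (y : A'.obj.obj (op T))
    (hy : (cokernel.π φ).hom.app (op T) y = 0) :
    ∃ R ∈ J T, ∀ ⦃T' : C⦄ (k : T' ⟶ T), R k → ∃ l, φ.hom.app (op T') l = A'.obj.map k.op y := by
  haveI : Sheaf.IsLocallySurjective (Abelian.factorThruImage φ) :=
    (Sheaf.isLocallySurjective_iff_epi' _ _).2 inferInstance
  obtain ⟨z, hz⟩ := app_exact (S := ShortComplex.mk (Abelian.image.ι φ) (cokernel.π φ) (kernel.condition _))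
    (ShortComplex.exact_of_f_is_kernel _ (kernelIsKernel _)) T y hy
  refine ⟨_, Presheaf.imageSieve_mem J (Abelian.factorThruImage φ).hom z, fun T' k hk => ?_⟩
  obtain ⟨l, hl⟩ := hk
  refine ⟨l, (congr(($(Abelian.image.fac φ)).hom.app (op T') l)).symm.trans ?_⟩
  show (Abelian.image.ι φ).hom.app (op T') ((Abelian.factorThruImage φ).hom.app (op T') l) = _
  rw [hl, NatTrans.naturality_apply]
  exact congrArg _ hz

variable [EnoughInjectives (Sheaf J AddCommGrpCat.{u + 1})]

omit hS in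
theorem rightDerived_hom_eq_zero (h₂ : ∀ φ : P ⟶ (HomSh.extSh J Q 1).obj G, φ = 0)
    (φ : P ⟶ ((HomSh.homShFunctor J Q).rightDerived 1).obj G) : φ = 0 := by
  rw [HomSh.extSh_def] at h₂
  exact h₂ φ

omit hS in
theorem cokernel_hom_eq_zero (F : Sheaf J AddCommGrpCat.{u + 1} ⥤ Sheaf J AddCommGrpCat.{u + 1}) [F.Additive]
    [PreservesFiniteLimits F] {S : ShortComplex (Sheaf J AddCommGrpCat.{u + 1})} (hS' : S.ShortExact) [Injective S.X₂]
    (h : ∀ φ : P ⟶ (F.rightDerived 1).obj S.X₁, φ = 0) (β' : P ⟶ cokernel (F.map S.g)) : β' = 0 := by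
  obtain ⟨e⟩ := QCoh.nonempty_R1_iso F hS' (F.isZero_rightDerived_obj_injective_succ 0 _)
  rw [← cancel_mono e.inv, zero_comp]
  exact h _

include hS in
theorem exists_local_lift [Injective D.I] (h₂ : ∀ φ : P ⟶ (HomSh.extSh J Q 1).obj G, φ = 0) :
    ∀ T (p : P.obj.obj (op T)), ∃ R ∈ J T, ∀ ⦃T' : C⦄ (k : T' ⟶ T), R k →
      ∃ l : (HomSh.homSh J Q D.I).obj.obj (op T'),
        (HomSh.homShMap J (𝟙 Q) D.π).hom.app (op T') l = (HomSh.homSh J Q D.K).obj.map k.op (βSec D T p) := by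
  let φ : HomSh.homSh J Q D.I ⟶ HomSh.homSh J Q D.K := HomSh.homShMap J (𝟙 Q) D.π
  have hc : ∀ T (h : (HomSh.homSh J Q D.I).obj.obj (op T)), (cokernel.π φ).hom.app (op T) (φ.hom.app (op T) h) = 0 :=
    fun T h => congr(($(cokernel.condition φ)).hom.app (op T) h)
  let β' : P ⟶ cokernel φ :=
    ⟨{ app := fun T => AddCommGrpCat.ofHom (AddMonoidHom.mk' (fun p => (cokernel.π φ).hom.app T (βSec D T.unop p))
        fun a b => by
          rw [← π_δSec D T.unop a b, map_add, map_add, hc T.unop, zero_add])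
       naturality := fun T T' k => AddCommGrpCat.hom_ext (AddMonoidHom.ext fun p => by
        show (cokernel.π φ).hom.app T' (βSec D T'.unop (P.obj.map k p)) =
          (cokernel φ).obj.map k ((cokernel.π φ).hom.app T (βSec D T.unop p))
        rw [← NatTrans.naturality_apply]
        exact congrArg ((cokernel.π φ).hom.app T') (βSec_map D k.unop p)) }⟩
  have hz : β' = 0 :=
    cokernel_hom_eq_zero (HomSh.homShFunctor J Q) (S := ShortComplex.mk D.i D.π D.w) hS
      (rightDerived_hom_eq_zero h₂) β'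
  exact fun T p => exists_local_preimage φ (βSec D T p) congr(($hz).hom.app (op T) p)

variable [HasExt.{u + 1} (Sheaf J AddCommGrpCat.{u + 1})]

omit hS in
/-- A biextension with vanishing classes is trivial. -/
theorem isTrivial (B : Biext J P Q G)
    (h₁ : ∀ e : Abelian.Ext P (HomSh.homSh J Q G) 1, e = 0)
    (h₂ : ∀ φ : P ⟶ (HomSh.extSh J Q 1).obj G, φ = 0) : Biext.IsTrivial J B := by
  obtain ⟨f, hf₁, hf₂, hf₃⟩ := exists_extend B (Injective.under G) (Injective.ι G)
  obtain ⟨D, hS, hI⟩ : ∃ D : Pres B, (ShortComplex.mk D.i D.π D.w).ShortExact ∧ Injective D.I :=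
    ⟨{ I := Injective.under G, K := cokernel (Injective.ι G), i := Injective.ι G, π := cokernel.π _,
       w := cokernel.condition _, f := f, f_map := hf₁, f_act := hf₂, f_add₂ := hf₃ },
      { exact := ShortComplex.exact_of_g_is_cokernel _ (cokernelIsCokernel _)
        mono_f := inferInstanceAs (Mono (Injective.ι G))
        epi_g := inferInstanceAs (Epi (cokernel.π _)) },
      inferInstanceAs (Injective (Injective.under G))⟩
  obtain ⟨w, hT⟩ := shortExact_triv D hS (exists_local_lift D hS h₂)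
  obtain ⟨s, hs⟩ := Abelian.Ext.covariant_sequence_exact₃ P hT (Abelian.Ext.mk₀ (𝟙 P)) (zero_add 1) (h₁ _)
  obtain ⟨s, rfl⟩ := (Abelian.Ext.mk₀_bijective P _).2 s
  refine isTrivial_of_section D hS s ((Abelian.Ext.mk₀_bijective P P).1 ?_)
  rw [← hs, Abelian.Ext.mk₀_comp_mk₀]

end Groth.Agent.BiextCls
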