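import Groth.Agent.BiextCls.Fibre
import Mathlib.Algebra.Category.Grp.EnoughInjectives
import Mathlib.CategoryTheory.Sites.LocallyBijective
import Mathlib.CategoryTheory.Sites.LeftExact
import Mathlib.Algebra.Category.Grp.FilteredColimits
import Mathlib.GroupTheory.FreeAbelianGroup

/-!
# A morphism of a sheaf into an injective extends over the total space of a biextension
-/

noncomputable section

set_option autoImplicit false
set_option linter.unusedSectionVars false

universe u

open CategoryTheory CategoryTheory.Limits Opposite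

namespace Groth.Agent.BiextCls

variable {C : Type (u + 1)} [Category.{u} C] {J : GrothendieckTopology C} {P Q G : Sheaf J AddCommGrpCat.{u + 1}}
  (B : Biext J P Q G)

/-- Pairs of a section of the group and a formal combination of points. -/
abbrev Pair (T : C) : Type (u + 1) := G.obj.obj (op T) × FreeAbelianGroup (B.E.obj.obj (op T))

/-- The relations. -/
def rels (T : C) : AddSubgroup (Pair B T) :=
  AddSubgroup.closure
    ({z | ∃ g x, z = (g, FreeAbelianGroup.of x) - (0, FreeAbelianGroup.of (B.act T g x))} ∪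
     {z | ∃ x y h, z = ((0 : G.obj.obj (op T)), FreeAbelianGroup.of (B.add₂ T x y h)) -
        (0, FreeAbelianGroup.of x) - (0, FreeAbelianGroup.of y)})

/-- Restriction of pairs. -/
def pairMap {T T' : C} (k : T' ⟶ T) : Pair B T →+ Pair B T' :=
  AddMonoidHom.prodMap (G.obj.map k.op).hom (FreeAbelianGroup.map (B.E.obj.map k.op))

theorem pairMap_of {T T' : C} (k : T' ⟶ T) (g : G.obj.obj (op T)) (x : B.E.obj.obj (op T)) :
    pairMap B k (g, FreeAbelianGroup.of x) = (G.obj.map k.op g, FreeAbelianGroup.of (B.E.obj.map k.op x)) :=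
  Prod.ext rfl (FreeAbelianGroup.map_of_apply x)

theorem rels_le {T T' : C} (k : T' ⟶ T) : rels B T ≤ (rels B T').comap (pairMap B k) := by
  refine (AddSubgroup.closure_le _).2 ?_
  rintro z (⟨g, x, rfl⟩ | ⟨x, y, h, rfl⟩) <;>
    simp only [SetLike.mem_coe, AddSubgroup.mem_comap, map_sub, pairMap_of, map_zero]
  · exact AddSubgroup.subset_closure (Or.inl ⟨_, _, by rw [B.act_map]⟩)
  · exact AddSubgroup.subset_closure (Or.inr ⟨_, _, _, by rw [B.add₂_map]⟩)

/-- The universal target. -/
def univTarget : Cᵒᵖ ⥤ AddCommGrpCat.{u + 1} where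
  obj T := AddCommGrpCat.of (Pair B T.unop ⧸ rels B T.unop)
  map k := AddCommGrpCat.ofHom (QuotientAddGroup.map _ _ (pairMap B k.unop) (rels_le B k.unop))
  map_id T := by
    refine AddCommGrpCat.hom_ext (QuotientAddGroup.addMonoidHom_ext _ (AddMonoidHom.ext fun z => ?_))
    refine congrArg (QuotientAddGroup.mk' _) (Prod.ext ?_ ?_)
    · show G.obj.map (𝟙 T) z.1 = z.1
      rw [G.obj.map_id]; rfl
    · show FreeAbelianGroup.map (B.E.obj.map (𝟙 T)) z.2 = z.2
      rw [B.E.obj.map_id]
      exact FreeAbelianGroup.map_id_apply z.2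
  map_comp k l := by
    refine AddCommGrpCat.hom_ext (QuotientAddGroup.addMonoidHom_ext _ (AddMonoidHom.ext fun z => ?_))
    refine congrArg (QuotientAddGroup.mk' _) (Prod.ext ?_ ?_)
    · show G.obj.map (k ≫ l) z.1 = _
      rw [G.obj.map_comp]; rfl
    · show FreeAbelianGroup.map (B.E.obj.map (k ≫ l)) z.2 = _
      rw [B.E.obj.map_comp]
      exact FreeAbelianGroup.map_comp_apply (g := B.E.obj.map l) z.2

/-- The group maps to the universal target. -/
def inlNat : G.obj ⟶ univTarget B where
  app T := AddCommGrpCat.ofHom ((QuotientAddGroup.mk' _).comp (AddMonoidHom.inl _ _))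
  naturality T T' k := by
    refine AddCommGrpCat.hom_ext (AddMonoidHom.ext fun g => ?_)
    exact congrArg (QuotientAddGroup.mk' _) (Prod.ext rfl (map_zero (FreeAbelianGroup.map (B.E.obj.map k))).symm)

theorem inlNat_injective (T : C) : Function.Injective ((inlNat B).app (op T)) := by
  let D := Injective.under (G.obj.obj (op T))
  let j : G.obj.obj (op T) ⟶ D := Injective.ι (G.obj.obj (op T))
  haveI : ∀ p, Mono (AddCommGrpCat.ofHom (incl B T p) : G.obj.obj (op T) ⟶ AddCommGrpCat.of (Fib B T p)) := fun p =>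
    (AddCommGrpCat.mono_iff_injective _).2 (incl_injective B T p)
  let lam : ∀ p, Fib B T p →+ D := fun p =>
    (Injective.factorThru j (AddCommGrpCat.ofHom (incl B T p))).hom
  have hlam : ∀ p g, lam p (incl B T p g) = j g := fun p g =>
    ConcreteCategory.congr_hom (Injective.comp_factorThru j (AddCommGrpCat.ofHom (incl B T p))) g
  let Λ : B.E.obj.obj (op T) → D := fun x => lam (B.πP T x) ⟨x, rfl⟩
  have hΛ : ∀ p x (h : B.πP T x = p), Λ x = lam p ⟨x, h⟩ := by
    intro p x h; subst h; rfl
  let ψ : Pair B T →+ D :=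
    AddMonoidHom.coprod (show G.obj.obj (op T) →+ D from j.hom) (FreeAbelianGroup.lift Λ)
  have hψ : rels B T ≤ ψ.ker := by
    refine (AddSubgroup.closure_le _).2 ?_
    rintro z (⟨g, x, rfl⟩ | ⟨x, y, h, rfl⟩) <;>
      simp only [SetLike.mem_coe, AddMonoidHom.mem_ker, map_sub, ψ, AddMonoidHom.coprod_apply,
        FreeAbelianGroup.lift_apply_of, map_zero, zero_add]
    · let a : Fib B T (B.πP T x) := ⟨x, rfl⟩
      let b : Fib B T (B.πP T x) := ⟨B.act T g x, B.πP_act T g x⟩
      have e : b = incl B T (B.πP T x) g + a := act_eq_add B T _ g a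
      rw [hΛ _ (B.act T g x) (B.πP_act T g x)]
      show j g + lam _ a - lam _ b = 0
      rw [e, map_add, hlam]
      exact sub_self _
    · let a : Fib B T (B.πP T x) := ⟨x, rfl⟩
      let b : Fib B T (B.πP T x) := ⟨y, h.symm⟩
      rw [hΛ _ (B.add₂ T x y h) (B.πP_add₂ T x y h), hΛ _ x rfl, hΛ _ y h.symm]
      show lam _ (a + b) - lam _ a - lam _ b = 0
      rw [map_add]
      abel
  intro a b hab
  have h1 : QuotientAddGroup.lift (rels B T) ψ hψ ((inlNat B).app (op T) a) =
      QuotientAddGroup.lift (rels B T) ψ hψ ((inlNat B).app (op T) b) := congrArg _ hab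
  refine (AddCommGrpCat.mono_iff_injective j).1 inferInstance ?_
  have e : ∀ c, QuotientAddGroup.lift (rels B T) ψ hψ ((inlNat B).app (op T) c) = j c := fun c => by
    show ψ (c, 0) = _
    simp [ψ]
  rwa [e, e] at h1

variable [HasSheafify J AddCommGrpCat.{u + 1}] [J.WEqualsLocallyBijective AddCommGrpCat.{u + 1}]

/-- A morphism into an injective sheaf extends to an equivariant map on the points, additive for the second law. -/
theorem exists_extend (I : Sheaf J AddCommGrpCat.{u + 1}) [Injective I] (i : G ⟶ I) :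
    ∃ f : ∀ T : C, B.E.obj.obj (op T) → I.obj.obj (op T),
      (∀ {T T' : C} (k : T' ⟶ T) x, f T' (B.E.obj.map k.op x) = I.obj.map k.op (f T x)) ∧
      (∀ T g x, f T (B.act T g x) = i.hom.app (op T) g + f T x) ∧
      (∀ T x y h, f T (B.add₂ T x y h) = f T x + f T y) := by
  let W := (presheafToSheaf J AddCommGrpCat.{u + 1}).obj (univTarget B)
  let η : univTarget B ⟶ W.obj := toSheafify J (univTarget B)
  haveI : Presheaf.IsLocallyInjective J η :=
    inferInstanceAs (Presheaf.IsLocallyInjective J (toSheafify J (univTarget B)))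
  let κ : G ⟶ W := ⟨inlNat B ≫ η⟩
  haveI : Mono κ := by
    haveI : Mono κ.hom := by
      haveI : ∀ T, Mono (κ.hom.app T) := fun T => (AddCommGrpCat.mono_iff_injective _).2 fun a b hab => by
        refine ext_ab G (Presheaf.equalizerSieve_mem J η ((inlNat B).app T a) ((inlNat B).app T b) hab) a b
          fun T' k hk => inlNat_injective B T' ?_
        exact (NatTrans.naturality_apply (inlNat B) k.op a).trans
          (hk.trans (NatTrans.naturality_apply (inlNat B) k.op b).symm)
      exact NatTrans.mono_of_mono_app _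
    exact (sheafToPresheaf J AddCommGrpCat.{u + 1}).mono_of_mono_map (show Mono κ.hom from inferInstance)
  let σ : W ⟶ I := Injective.factorThru i κ
  have hσ : ∀ T g, σ.hom.app (op T) (η.app (op T) ((inlNat B).app (op T) g)) = i.hom.app (op T) g := fun T g =>
    congr(($(Injective.comp_factorThru i κ)).hom.app (op T) g)
  let cls : ∀ T : C, Pair B T →+ I.obj.obj (op T) := fun T =>
    ((η ≫ σ.hom).app (op T)).hom.comp (QuotientAddGroup.mk' (rels B T))
  refine ⟨fun T x => cls T (0, FreeAbelianGroup.of x), fun {T T'} k x => ?_, fun T g x => ?_, fun T x y h => ?_⟩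
  · refine Eq.trans ?_ (NatTrans.naturality_apply (η ≫ σ.hom) k.op (QuotientAddGroup.mk' (rels B T) (0, FreeAbelianGroup.of x)))
    refine congrArg ((η ≫ σ.hom).app (op T')) (congrArg (QuotientAddGroup.mk' _) ?_)
    show _ = pairMap B k (0, FreeAbelianGroup.of x)
    rw [pairMap_of, map_zero]
  · have h : QuotientAddGroup.mk' (rels B T) ((g, FreeAbelianGroup.of x) - (0, FreeAbelianGroup.of (B.act T g x))) = 0 :=
      (QuotientAddGroup.eq_zero_iff _).2 (AddSubgroup.subset_closure (Or.inl ⟨g, x, rfl⟩))
    have h' := congrArg ((η ≫ σ.hom).app (op T)).hom h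
    replace h' := h'.trans (map_zero _)
    change cls T _ = 0 at h'
    rw [map_sub, sub_eq_zero] at h'
    show cls T _ = _ + cls T _
    rw [← h', ← hσ T g]
    show cls T (g, FreeAbelianGroup.of x) = cls T (g, 0) + _
    rw [← map_add, Prod.mk_add_mk, add_zero, zero_add]
  · have h' := congrArg ((η ≫ σ.hom).app (op T)).hom ((QuotientAddGroup.eq_zero_iff _).2
      (AddSubgroup.subset_closure (Or.inr ⟨x, y, h, rfl⟩) : _ ∈ rels B T))
    replace h' := h'.trans (map_zero _)
    change cls T _ = 0 at h'
    rw [map_sub, map_sub, sub_sub, sub_eq_zero] at h'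
    exact h'

end Groth.Agent.BiextCls
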